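import Cfsg.Agent.A8Q.Hq

/-!
# A8Q/Cw: the centraliser of an involution of the second class
-/

set_option autoImplicit false
set_option maxRecDepth 100000

namespace Cfsg.Agent.A8Q

open Cfsg.Agent.Comp Cfsg.Agent.Core Cfsg.Agent.M12R Subgroup

universe u

variable {G : Type u} [Group G] {φ : El DA →* G} {f g : G}

namespace AD

theorem one (h : AD φ f g) {a : G} (ha : IsConj 𝐳 a) (a1 : a * 𝐳 = 𝐳 * a) (a2 : a * 𝐰 = 𝐰 * a)
    (a3 : a * 𝐬 = 𝐬 * a) : a = 𝐳 := by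
  obtain ⟨r, rfl⟩ := (h.cent a).1 a1
  rcases f_W33 r (h.inj (by rw [map_mul, map_mul, a2])) (h.inj (by rw [map_mul, map_mul, a3])) with rfl | rfl | e
  · rw [map_one, isConj_one_left] at ha
    exact absurd ha (mdl h.inj)
  · rfl
  · exact absurd ha (h.cE (Or.inl e))

variable [Finite G]

theorem two (h : AD φ f g) {a : G} (ha : IsConj 𝐳 a) (a2 : a * 𝐰 = 𝐰 * a) (a3 : a * 𝐬 = 𝐬 * a) :
    ∃ k, k * 𝐰 = 𝐰 * k ∧ k * 𝐬 = 𝐬 * k ∧ k * 𝐳 * k⁻¹ = a := by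
  have zz : 𝐳 * 𝐳 = 1 := mdl h.inj
  have aa := sq_of_cj zz ha
  have z2 : Commute 𝐳 𝐰 := (h.comm mw).symm
  have z3 : Commute 𝐳 𝐬 := (h.comm ms).symm
  have c2 : Commute (𝐳 * a) 𝐰 := z2.mul_left a2
  have c3 : Commute (𝐳 * a) 𝐬 := z3.mul_left a3
  rcases Nat.even_or_odd (orderOf (𝐳 * a)) with he | ho
  · obtain ⟨hw, hc, -⟩ := Inv.half_power zz aa he
    refine absurd ?_ (Inv.ne_one_of_two hw)
    exact mul_eq_right.1 (h.one (a := (𝐳 * a) ^ (orderOf (𝐳 * a) / 2) * 𝐳) (by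
      rcases Inv.zpow_mul_conj zz aa ((orderOf (𝐳 * a) / 2 : ℕ) : ℤ) with ⟨-, d, -, hd⟩ | ⟨-, d, -, hd⟩ <;>
        rw [zpow_natCast] at hd
      exacts [cj_of d hd, ha.trans (cj_of d hd)]) (hc.mul_left (Commute.refl _)).eq
      ((c2.pow_left _).mul_left z2).eq ((c3.pow_left _).mul_left z3).eq)
  · obtain ⟨d, hd, e⟩ := Inv.exists_conj_of_odd zz aa ho
    exact ⟨d, (Inv.commute_of_mem_zpowers c2 hd).eq, (Inv.commute_of_mem_zpowers c3 hd).eq, e⟩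

theorem ns (h : AD φ f g) {m : G} (m1 : m * 𝐰 * m⁻¹ = 𝐰) : m * 𝐲 * m⁻¹ ≠ 𝐬 := fun m2 => by
  have A : ∀ r : El DA, r * mw = mw * r → r * my = my * r → m * φ r * m⁻¹ * 𝐰 = 𝐰 * (m * φ r * m⁻¹) ∧
      m * φ r * m⁻¹ * 𝐬 = 𝐬 * (m * φ r * m⁻¹) := fun r r1 r2 => by
    have a := cj_comm (show φ r * 𝐰 = 𝐰 * φ r by rw [← map_mul, r1, map_mul]) m
    have b := cj_comm (show φ r * 𝐲 = 𝐲 * φ r by rw [← map_mul, r2, map_mul]) m
    rw [m1] at a
    rw [m2] at b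
    exact ⟨a, b⟩
  obtain ⟨a1, a2⟩ := A mz (by decide +kernel) (by decide +kernel)
  obtain ⟨b1, b2⟩ := A mt (by decide +kernel) (by decide +kernel)
  obtain ⟨k, k1, k2, k3⟩ := h.two (cj_of m rfl) a1 a2
  have := h.one (a := k⁻¹ * (m * 𝐭 * m⁻¹) * k⁻¹⁻¹) ((h.zt.trans (cj_of m rfl)).trans (cj_of _ rfl))
    (by have := cj_comm (cj_comm (h.comm mt) m) k⁻¹; rwa [cj_rev k3] at this)
    (by have := cj_comm b1 k⁻¹; rwa [cj_rev (cj_fix k1)] at this)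
    (by have := cj_comm b2 k⁻¹; rwa [cj_rev (cj_fix k2)] at this)
  have e : m * 𝐭 * m⁻¹ = m * 𝐳 * m⁻¹ := by rw [← k3, ← this]; group
  exact absurd (mul_left_cancel (mul_right_cancel e)) (mdl h.inj)

/-- normal forms in the symmetric group of degree four -/
noncomputable def P4 (h : AD φ f g) (n : ℕ) : HH φ := p4 h.ee (el φ ms) (el φ mj) (h.ee * el φ mj * h.ee⁻¹) n

omit [Finite G] in
theorem P4_mem (h : AD φ f g) {M : Subgroup G} (h1 : φ.range ≤ M) (h2 : f * g ∈ M) (n : ℕ) : (h.P4 n : G) ∈ M := by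
  have j : 𝐣 ∈ M := h1 ⟨_, rfl⟩
  exact mul_mem (mul_mem (mul_mem (pow_mem h2 _) (pow_mem (h1 ⟨_, rfl⟩) _)) (pow_mem j _))
    (pow_mem (mul_mem (mul_mem h2 j) (inv_mem h2)) _)

omit [Finite G] in
theorem dich (h : AD φ f g) {θ : HH φ →* El DS} (gz : θ (el φ mj) = sz) (gu : θ (el φ ms) = su) (gf : θ h.ee = sf) :
    (∀ n, θ (h.P4 n) = p4 sf su sz (sf * sz * sf⁻¹) n) ∧
      ((∀ a, ∃ n < 24, θ a = p4 sf su sz (sf * sz * sf⁻¹) n) ∨ Function.Surjective θ) := by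
  have P : ∀ n, θ (h.P4 n) = p4 sf su sz (sf * sz * sf⁻¹) n := fun n => by
    simp only [P4, p4, map_mul, map_pow, map_inv, gz, gu, gf]
  refine ⟨P, or_iff_not_imp_left.2 fun H x => ?_⟩
  obtain ⟨a, ha⟩ := not_forall.1 H
  obtain ⟨n, -, m, -, e⟩ := (s_dc _).resolve_left ha
  rcases s_dc x with ⟨n, -, rfl⟩ | ⟨n', -, m', -, rfl⟩
  · exact ⟨_, P n⟩
  · exact ⟨h.P4 n' * ((h.P4 n)⁻¹ * a * (h.P4 m)⁻¹) * h.P4 m', by
      simp only [map_mul, map_inv, P, e]; group⟩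

theorem inv (h : AD φ f g) (fg : f * g * f⁻¹ = g) (a : HH φ) (aa : a * a = 1) :
    ∃ (k : HH φ) (r : El DA), r * mw = mw * r ∧ k * a * (k : G)⁻¹ = φ r := by
  obtain ⟨θ, hθ, gz, gu, gf⟩ := h.cov fg
  obtain ⟨P, H⟩ := h.dich gz gu gf
  have a2 : θ a * θ a = 1 := by rw [← map_mul, aa, map_one]
  have : θ a = 1 ∨ ∃ k : HH φ, θ k * θ a * (θ k)⁻¹ = sz ∨ θ k * θ a * (θ k)⁻¹ = su := by
    rcases H with H | H
    · obtain ⟨n, hn, e⟩ := H a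
      exact (s_inv4 n hn _ e a2).imp_right fun ⟨m, _, y, e1, e2⟩ => ⟨h.P4 m, by rw [P, ← e1]; exact e2⟩
    · exact (s_inv _ a2).imp_right fun ⟨y, e⟩ => let ⟨k, hk⟩ := H y; ⟨k, hk ▸ e⟩
  have A : ∀ (k : HH φ) r (hr : r * mw = mw * r), θ (k * a * k⁻¹) = θ (el φ r hr) →
      ∃ (k : HH φ) (r : El DA), r * mw = mw * r ∧ k * a * (k : G)⁻¹ = φ r := fun k r hr e => by
    obtain ⟨r', hr', e⟩ := (hθ _ _).1 e
    exact ⟨k, r * r', by rw [mul_assoc, (f_F r' hr').2.1, ← mul_assoc, hr, mul_assoc], e.trans (map_mul φ _ _).symm⟩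
  rcases this with e | ⟨k, e | e⟩
  · exact A 1 1 (by simp) (by
      rw [one_mul, inv_one, mul_one, e, ← map_one θ]; exact congrArg θ (Subtype.ext (map_one φ).symm))
  · exact A k mj _ (by rw [map_mul, map_mul, map_inv, e, gz])
  · exact A k ms _ (by rw [map_mul, map_mul, map_inv, e, gu])

/-- elements of the centraliser of `w` -/
noncomputable def cl (φ : El DA →* G) (r : El DA) (hr : r * mw = mw * r := by decide +kernel) :
    centralizer ({𝐰} : Set G) := ⟨φ r, mem_cent.2 (by rw [← map_mul, hr, map_mul])⟩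

theorem cw (h : AD φ f g) (fg : f * g * f⁻¹ = g) {c : G} (hc : c * 𝐰 = 𝐰 * c) : c ∈ HH φ := by
  obtain ⟨X, _, π, hπ⟩ := exists_cov (w := 𝐰) (mdl h.inj)
  haveI : Finite X := Finite.of_surjective _ hπ.surj
  have zz : 𝐳 * 𝐳 = 1 := mdl h.inj
  have n := (inferInstance : (oddCore X).Normal)
  have odd : ∀ o ∈ oddCore X, Odd (orderOf o) := fun o ho => Inv.odd_orderOf_of_mem Inv.odd_card_oddCore ho
  have fix : ∀ o ∈ oddCore X, π (cl φ mz) * o = o * π (cl φ mz) → o = 1 := fun o ho e => by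
    obtain ⟨a, rfl⟩ := hπ.surj o
    have e' : (a : G) * 𝐳 * (a : G)⁻¹ = 𝐳 :=
      ((hπ.eqv (a * cl φ mz * a⁻¹) (cl φ mz)).1 (by
        rw [map_mul, map_mul, map_inv]; exact cj_fix e.symm)).resolve_right fun e =>
        h.cE (r := mz * mw) (by decide +kernel) (cj_of (a : G) (e.trans (map_mul φ _ _).symm))
    obtain ⟨r, hr⟩ := (h.cent _).1 (comm_of_cj e')
    refine eq_one_of_odd (odd _ ho) ?_
    rw [← map_pow, show a ^ 4 = 1 from Subtype.ext (by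
      rw [coe_pow, ← hr, ← map_pow, f_two mw (by decide +kernel) (by decide +kernel) (by decide +kernel) r
        (h.inj (by rw [map_mul, map_mul, hr]; exact mem_cent.1 a.2)), map_one]; rfl), map_one]
  have hO : oddCore X = ⊥ := by
    have inv : ∀ o ∈ oddCore X, π (cl φ mz) * o * (π (cl φ mz))⁻¹ = o⁻¹ := fun o ho => by
      obtain ⟨a, ha, i, -, h1, h2, h3⟩ := Inv.exists_fixed_mul_inverted odd (z := π (cl φ mz)) (by
        rw [← map_mul, ← map_one π]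
        exact congrArg π (Subtype.ext zz)) (fun x hx => n.conj_mem x hx _) ho
      rw [h3, fix a ha h1.symm.eq, one_mul, h2]
    have inv' : ∀ k : X, ∀ o ∈ oddCore X, k * π (cl φ mz) * k⁻¹ * o * (k * π (cl φ mz) * k⁻¹)⁻¹ = o⁻¹ :=
      fun k o ho => by
      calc _ = k * (π (cl φ mz) * (k⁻¹ * o * k⁻¹⁻¹) * (π (cl φ mz))⁻¹) * k⁻¹ := by group
        _ = _ := by rw [inv _ (n.conj_mem o ho k⁻¹)]; group
    let e : centralizer ({𝐰} : Set G) := ⟨f * g, mem_cent.2 (comm_of_cj h.ea)⟩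
    rw [eq_bot_iff]
    intro o ho
    refine fix o ho (comm_of_cj ?_)
    have := cj_cj (inv' (π e) o ho) ((inv' (π e)⁻¹ _ (inv_mem ho)).trans (inv_inv o))
    rwa [show (π e)⁻¹ * π (cl φ mz) * (π e)⁻¹⁻¹ * (π e * π (cl φ mz) * (π e)⁻¹) = π (cl φ mz) by
      simp only [← map_mul, ← map_inv]
      refine (hπ.eqv _ _).2 (Or.inr ?_)
      show (f * g)⁻¹ * 𝐳 * (f * g)⁻¹⁻¹ * (f * g * 𝐳 * (f * g)⁻¹) = 𝐳 * 𝐰
      rw [cj_rev (h.ea (y := mz * mv * mb * mt)), h.ea (y' := mt)]; exact mdl h.inj] at this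
  have hz : IsIsolatedInvolution (π (cl φ my)) := by
    refine ⟨Inv.two_of_mul_self (fun e => ?_) (by
      rw [← map_mul, ← map_one π]; exact congrArg π (Subtype.ext (show 𝐲 * 𝐲 = 1 from mdl h.inj))), fun a ha => ?_⟩
    · rcases (hπ.eqv _ 1).1 (e.trans (map_one π).symm) with e | e
      · exact absurd e (show 𝐲 ≠ 1 from mdl h.inj)
      · exact absurd (e.trans (one_mul _)) (show 𝐲 ≠ 𝐰 from mdl h.inj)
    obtain ⟨a, rfl⟩ := hπ.surj a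
    have e0 := (hπ.eqv (a * cl φ my * a⁻¹ * cl φ my * (a * cl φ my * a⁻¹)⁻¹) (cl φ my)).1 (by
      rw [map_mul, map_mul, map_inv, map_mul, map_mul, map_inv]; exact cj_fix ha.symm.eq)
    simp only [← map_mul, ← map_inv]
    rw [hπ.eqv]
    have aw := cj_fix (mem_cent.1 a.2)
    obtain ⟨k, r, r1, e⟩ := h.inv fg ⟨a * 𝐲 * (a : G)⁻¹, cj_fix (mem_cent.1 (a * cl φ my * a⁻¹).2), e0⟩
      (Subtype.ext (cj_sq (mdl h.inj) _))
    have e1 : (k * a : G) * 𝐲 * (k * a : G)⁻¹ = φ r := cj_cj rfl e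
    have e2 := cj_cj aw k.2.1
    have e3 := cj_rev e
    obtain ⟨k1, k2⟩ := k⁻¹.2
    show (a : G) * 𝐲 * (a : G)⁻¹ = 𝐲 ∨ (a : G) * 𝐲 * (a : G)⁻¹ = 𝐲 * 𝐰
    rcases f_T r r1 (h.inj (by rw [map_mul, map_one, ← e1]; exact cj_sq (mdl h.inj) _)) with
      rfl | rfl | H | H | rfl | rfl | ⟨t, t1, rfl⟩
    · rw [map_one, conj_eq_one_iff] at e1
      exact absurd e1 (mdl h.inj)
    · exact absurd ((cj_rev e1).symm.trans (cj_rev e2)) (mdl h.inj)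
    · exact absurd ((h.cD H).trans (cj_of _ e1).symm) h.cE
    · have := cj_mul e1 e2
      rw [← map_mul, ← map_mul] at this
      exact absurd ((h.cD H).trans (cj_of _ this).symm) h.cE
    · exact k2.imp e3.symm.trans e3.symm.trans
    · rw [map_mul] at e3
      exact k2.symm.imp (fun e => e3.symm.trans ((cj_mul e k1).trans (ww φ))) fun e => e3.symm.trans (cj_mul e k1)
    · exact absurd (cj_cj e1 (by simp only [map_mul, map_inv]; group)) (h.ns (m := (φ t)⁻¹ * (k * a))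
        (cj_cj e2 (cj_rev (cj_fix (by rw [← map_mul, t1, map_mul])))))
  let a : centralizer ({𝐰} : Set G) := ⟨c, mem_cent.2 hc⟩
  exact ⟨cj_fix hc, (hπ.eqv (a * cl φ my * a⁻¹) (cl φ my)).1 (by
    rw [map_mul, map_mul, map_inv]; exact cj_fix (Inv.zstar_commute hO hz (π a)).symm.eq)⟩

theorem dich2 (h : AD φ f g) (fg : f * g * f⁻¹ = g) :
    (∀ M : Subgroup G, φ.range ≤ M → f * g ∈ M → HH φ ≤ M) ∨ ∃ d, d * d = 1 ∧ d * 𝐳 * (d * 𝐳) * (d * 𝐳) = 1 ∧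
      d * (f * g) * (d * (f * g)) = 1 ∧ φ mo * d * (φ mo)⁻¹ = d ∧
      ∀ M : Subgroup G, φ.range ≤ M → f * g ∈ M → d ∈ M → HH φ ≤ M := by
  obtain ⟨θ, hθ, gz, gu, gf⟩ := h.cov fg
  obtain ⟨P, H | H⟩ := h.dich gz gu gf
  · refine Or.inl fun M h1 h2 a ha => ?_
    obtain ⟨n, -, e⟩ := H ⟨a, ha⟩
    obtain ⟨r, -, e⟩ := (hθ _ _).1 (e.trans (P n).symm)
    exact (show a = _ from e) ▸ mul_mem (h.P4_mem h1 h2 n) (h1 ⟨_, rfl⟩)
  have jj : el φ mj * el φ mj = 1 := Subtype.ext (show 𝐣 * 𝐣 = 1 from mdl h.inj)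
  have wi : 𝐰 * 𝐰 = 1 := mdl h.inj
  have zj : 𝐳 = 𝐣 * 𝐰 := mdl h.inj
  obtain ⟨c, hc⟩ := s_d
  obtain ⟨c, rfl⟩ := H c
  obtain ⟨d, hd⟩ : ∃ d, d = c * el φ mj * c⁻¹ := ⟨_, rfl⟩
  have gd : θ d = sd := by rw [hd, map_mul, map_mul, map_inv, gz, hc]
  have nE : ∀ k : HH φ, ¬ IsConj 𝐳 (k * el φ mj * k⁻¹ : HH φ) := fun k e =>
    h.cE (r := mj) (by decide +kernel) (e.trans (cj_of (k : G) rfl).symm)
  have dd : d * d = 1 := hd ▸ cj_sq jj c
  have dd' : (d : G) * d = 1 := congrArg Subtype.val dd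
  have dw : Commute (d : G) 𝐰 := comm_of_cj d.2.1
  have cd : (c : G) * 𝐳 * (c : G)⁻¹ = d * 𝐰 := by rw [zj, hd]; exact cj_mul rfl c.2.1
  have L : ∀ k k' : HH φ, θ (k * el φ mj * k⁻¹) = θ (k' * el φ mj * k'⁻¹) →
      (k : G) * 𝐳 * (k : G)⁻¹ = k' * 𝐳 * (k' : G)⁻¹ := fun k k' e => by
    rw [zj, cj_mul rfl k.2.1, cj_mul rfl k'.2.1]
    exact congrArg (· * 𝐰) (congrArg Subtype.val (h.lift hθ _ k' (nE k) e))
  have L' : ∀ k k' : HH φ, θ k * sz * (θ k)⁻¹ = θ k' * sz * (θ k')⁻¹ →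
      (k : G) * 𝐳 * (k : G)⁻¹ = k' * 𝐳 * (k' : G)⁻¹ := fun k k' e =>
    L k k' (by simp only [map_mul, map_inv, gz, e])
  have cj : ∀ k : HH φ, θ (k * c) * sz * (θ (k * c))⁻¹ = θ k * sd * (θ k)⁻¹ := fun k => by
    rw [← hc, map_mul]; group
  have cj' : ∀ k : HH φ, ((k * c : HH φ) : G) * 𝐳 * ((k * c : HH φ) : G)⁻¹ = k * (d * 𝐰) * (k : G)⁻¹ := fun k =>
    cj_cj cd rfl
  have zd : IsConj 𝐳 (d * 𝐰) := cj_of _ cd
  have d2 : d * 𝐰 * (d * 𝐰) = 1 := sq_of_cj (mdl h.inj) zd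
  have zz : 𝐳 * 𝐳 = 1 := mdl h.inj
  refine Or.inr ⟨d * 𝐰, d2, ?_, ?_, ?_, fun M h1 h2 h3 a ha => ?_⟩
  · have := L' (d * el φ mj * c) 1 (by rw [cj, map_mul, gd, gz, map_one]; decide +kernel)
    rw [cj', coe_one, one_mul, inv_one, mul_one] at this
    have e : d * 𝐰 * 𝐳 = ((d * el φ mj : HH φ) : G) := by
      rw [mul_assoc]; exact congrArg _ (show 𝐰 * 𝐳 = 𝐣 from mdl h.inj)
    rw [← e] at this
    calc _ = d * 𝐰 * 𝐳 * (d * 𝐰) * (d * 𝐰 * 𝐳)⁻¹ * (d * 𝐰 * (𝐳 * 𝐳) * (d * 𝐰)) * 𝐳 := by group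
      _ = 1 := by rw [this, zz, mul_one, d2, mul_one, zz]
  · obtain ⟨r, hr, e⟩ := (hθ (d * h.ee * (d * h.ee)) 1).1 (by
      simp only [map_mul, map_one, gf, gd]; decide +kernel)
    replace e : d * (f * g) * (d * (f * g)) = 1 * φ r := e
    obtain ⟨-, -, r3, r4, r5, r6, -⟩ := f_F r hr
    have ce : Commute (φ r) (f * g)⁻¹ := (show Commute (f * g) (φ r) from comm_of_cj (h.ea ⟨r4, r5.symm, r6⟩)).symm.inv_right
    have e3 : f * g * (f * g) * (f * g) = 1 := congrArg Subtype.val (h.e3 fg)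
    have e' : d * (f * g) * (d : G)⁻¹ = φ r * (f * g)⁻¹ := by
      rw [inv_eq_of_mul_eq_one_right dd', eq_mul_inv_iff_mul_eq, mul_assoc, e, one_mul]
    have : (d * (f * g) * (d : G)⁻¹) ^ 3 = 1 := by rw [conj_pow, pow_three', e3, mul_one, mul_inv_cancel]
    rw [e', ce.mul_pow, inv_pow, pow_three' (f * g), e3, inv_one, mul_one, pow_three', ← map_mul, ← map_mul, r3] at this
    have ew : f * g * 𝐰 = 𝐰 * (f * g) := comm_of_cj h.ea
    calc _ = d * (𝐰 * (f * g * d * 𝐰)) * (f * g) := by simp only [mul_assoc]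
      _ = d * (f * g) * (d * (f * g)) := by
        rw [mul_assoc (f * g), dw.eq, ← mul_assoc (f * g), ew, ← mul_assoc 𝐰, ← mul_assoc 𝐰, wi, one_mul]
        simp only [mul_assoc]
      _ = 1 := by rw [e, this, one_mul]
  · have ds := L' (el φ ms * c) c (by rw [cj, gu, hc]; decide +kernel)
    rw [cj', cd] at ds
    have x1 := cj_comm ((dw.mul_left (Commute.refl _)).eq) (φ mo)
    have x2 := cj_comm (comm_of_cj ds).symm (φ mo)
    rw [show φ mo * 𝐰 * (φ mo)⁻¹ = 𝐬 * 𝐰 from mdl h.inj] at x1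
    change _ * (φ mo * 𝐬 * (φ mo)⁻¹) = (φ mo * 𝐬 * (φ mo)⁻¹) * _ at x2
    rw [show φ mo * 𝐬 * (φ mo)⁻¹ = 𝐰 from mdl h.inj] at x2
    rw [mul_assoc 𝐬, ← x2, ← mul_assoc, ← mul_assoc 𝐬, mul_left_inj] at x1
    obtain ⟨k, k1, k2, k3⟩ := h.two (zd.trans (cj_of (φ mo) rfl)) x2 x1
    let k' : HH φ := ⟨k, h.cw fg k1⟩
    have oz : φ mo * 𝐳 * (φ mo)⁻¹ = 𝐳 := cj_fix (h.comm _)
    rcases s_du (θ k') (by
      have := cj_comm (show sz * su = su * sz by decide +kernel) (θ k')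
      rwa [cj_fix (b := su) (by rw [← gu, ← map_mul, ← map_mul]; exact congrArg θ (Subtype.ext k2))] at this) with
      e | e | e
    · have := L' k' 1 (by rw [e, map_one, one_mul, inv_one, mul_one])
      rw [coe_one, one_mul, inv_one, mul_one] at this
      have e' : d = el φ mj := Subtype.ext (mul_right_cancel
        (((cj_rev (k3.symm.trans this)).symm.trans (cj_rev oz)).trans zj))
      rw [e', gz] at gd
      exact absurd gd (by decide +kernel)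
    · exact k3.symm.trans ((L' k' c (e.trans hc.symm)).trans cd)
    · have := L' k' (el φ mz * c) (by
        rw [e, cj, show θ (el φ mz) = sz from ((hθ _ _).2 ⟨mw, by simp [aF], zj⟩).trans gz]; decide +kernel)
      rw [cj'] at this
      have e1 : φ mo * (d * 𝐰) * (φ mo)⁻¹ = 𝐳 * (d * 𝐰) * 𝐳⁻¹ := k3.symm.trans this
      have e2 := cj_cj e1 ((cj_mul (cj_mul oz e1) (cj_inv oz)).trans (back zz rfl))
      have e3 := cj_cj e2 e2
      rwa [show φ mo * φ mo * (φ mo * φ mo) = φ mo from mdl h.inj] at e3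
  · have h4 : (d : G) ∈ M := (mul_mem_cancel_right (h1 ⟨_, rfl⟩)).1 h3
    rcases s_dc (θ ⟨a, ha⟩) with ⟨n, -, e⟩ | ⟨n, -, m, -, e⟩
    · obtain ⟨r, -, e⟩ := (hθ _ _).1 (e.trans (P n).symm)
      exact (show a = _ from e) ▸ mul_mem (h.P4_mem h1 h2 n) (h1 ⟨_, rfl⟩)
    · rw [← P, ← P, ← gd, ← map_mul, ← map_mul] at e
      obtain ⟨r, -, e⟩ := (hθ _ _).1 e
      exact (show a = _ from e) ▸ mul_mem (mul_mem (mul_mem (h.P4_mem h1 h2 n) h4) (h.P4_mem h1 h2 m)) (h1 ⟨_, rfl⟩)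

end AD

end Cfsg.Agent.A8Q
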