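import Cfsg.Agent.A8Q.Tab

/-!
# A8Q/F0: facts about the group `2^{1+4}.3`
-/

set_option autoImplicit false
set_option maxRecDepth 100000
set_option synthInstance.maxSize 100000

namespace Cfsg.Agent.A8Q

open Cfsg.Agent.Comp Cfsg.Agent.Core

/-- normal forms -/
def nf {M : Type*} [Group M] (p q x : M) (i j k l m : ℕ) : M :=
  p ^ i * (x * p * x⁻¹) ^ j * q ^ k * (x * q * x⁻¹) ^ l * x ^ m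

theorem map_nf {M N F : Type*} [Group M] [Group N] [FunLike F M N] [MonoidHomClass F M N] (f : F) (p q x : M)
    (i j k l m : ℕ) : f (nf p q x i j k l m) = nf (f p) (f q) (f x) i j k l m := by
  simp only [nf, map_mul, map_pow, map_inv]

theorem q_l : El.l DQ 0 = qp ∧ El.l DQ 2 = qq ∧ El.l DQ 4 = qx ∧ qz = qp * qp := by decide +kernel

theorem q_ker : ∀ g : El DQ, g = 1 ∨ g = qz ∨ ∃ h ∈ [qp, qq, qx * qp * qx⁻¹, qx * qq * qx⁻¹], g * h * g⁻¹ * h⁻¹ = qz ∨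
    ∃ k ∈ [qp, qq, qx * qp * qx⁻¹, qx * qq * qx⁻¹], (g * h * g⁻¹ * h⁻¹) * k * (g * h * g⁻¹ * h⁻¹)⁻¹ * k⁻¹ = qz := by
  decide +kernel

theorem q_Q : ∀ g : El DQ, g ^ 4 = 1 → ∃ i < 4, ∃ j < 2, ∃ k < 2, ∃ l < 2, g = nf qp qq qx i j k l 0 := by
  decide +kernel

theorem q_cnt : El.cnt (fun g : El DQ => g ^ 4 = 1) = 32 := by decide +kernel

theorem q_all : ∀ g : El DQ, ∃ m < 3, ∃ i < 4, ∃ j < 2, ∃ k < 2, ∃ l < 2, g = nf qp qq qx i j k l m := by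
  decide +kernel

theorem q_x3 : ∀ a : El DQ, a ^ 4 = 1 → (qx⁻¹ * a) ^ 3 = 1 → ∃ c, c ^ 4 = 1 ∧ c * qx⁻¹ * c⁻¹ = qx⁻¹ * a := by
  decide +kernel

theorem q_p1 : ∀ a : El DQ, a * a = qz → (a * qx⁻¹) ^ 3 = 1 →
    ∃ m < 3, a = (qx ^ m)⁻¹ * qp⁻¹ * qx ^ m ∨ a = (qx ^ m)⁻¹ * qq⁻¹ * qx ^ m := by decide +kernel

theorem q_q1 : ∀ a : El DQ, a * a = qz → (a * qx⁻¹) ^ 3 = 1 → a * qp⁻¹ = qp⁻¹ * a →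
    a * (qx * qp⁻¹ * qx⁻¹) = qx * qp⁻¹ * qx⁻¹ * a → ∃ m < 3, (qx ^ m)⁻¹ * a * qx ^ m = (qx ^ m * qq * (qx ^ m)⁻¹)⁻¹ := by
  decide +kernel

theorem q_d8 : ∀ r : El DQ, r * r = 1 → r ≠ 1 → r ≠ qz → ∃ a, a * a = 1 ∧ a * r = r * a ∧ ∃ b, b * b = 1 ∧
    b * r = r * b ∧ a * b * (a * b) = qz := by decide +kernel

theorem q_ns : ∀ m < 3, ∀ i < 4, ∀ j < 2, ∀ k < 2, ∀ l < 2,
    nf qq⁻¹ qp⁻¹ qx⁻¹ i j k l m * qz * nf qp qq qx i j k l m ≠ 1 ∧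
    ∀ n < 3, nf qp⁻¹ (qx ^ n * (qx ^ n * qq * (qx ^ n)⁻¹)⁻¹ * (qx ^ n)⁻¹) qx⁻¹ i j k l m * qz * nf qp qq qx i j k l m ≠ 1 := by
  decide +kernel

theorem a_l : El.l DA 0 = mp ∧ El.l DA 1 = mp⁻¹ ∧ El.l DA 2 = mq ∧ El.l DA 3 = mq⁻¹ ∧ El.l DA 4 = mx ∧
    El.l DA 5 = mx⁻¹ ∧ El.l DA 6 = mt ∧ mz = mp * mp := by decide +kernel

theorem a_ker : ∀ g : El DA, g = 1 ∨ g = mz ∨ ∃ h ∈ [mp, mq, mx * mp * mx⁻¹, mx * mq * mx⁻¹], g * h * g⁻¹ * h⁻¹ = mz ∨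
    ∃ k ∈ [mp, mq, mx * mp * mx⁻¹, mx * mq * mx⁻¹], (g * h * g⁻¹ * h⁻¹) * k * (g * h * g⁻¹ * h⁻¹)⁻¹ * k⁻¹ = mz := by
  decide +kernel

end Cfsg.Agent.A8Q
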