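import Cfsg.Agent.A8Q.F0

/-!
# A8Q/F1: facts about the centraliser of a 2-central involution of `A₈`
-/

set_option autoImplicit false
set_option maxRecDepth 100000
set_option synthInstance.maxSize 100000

namespace Cfsg.Agent.A8Q
open Cfsg.Agent.Comp Cfsg.Agent.Core

theorem f_z : ∀ g : El DA, g * mz = mz * g := by decide +kernel

theorem f_inv : ∀ y : El DA, y * y = 1 → y = 1 ∨ y = mz ∨ (∃ t, t * mv * t⁻¹ = y) ∨ (∃ t, t * mb * t⁻¹ = y) ∨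
    (∃ t, t * mw * t⁻¹ = y) ∨ (∃ t, t * mt * t⁻¹ = y) ∨ ∃ t, t * mk * t⁻¹ = y := by decide +kernel

theorem f_Q : ∀ y : El DA, y * y = 1 → (y * (mx * y * mx⁻¹)) ^ 4 = 1 → y = 1 ∨ y = mz ∨ (∃ t, t * mv * t⁻¹ = y) ∨
    (∃ t, t * mb * t⁻¹ = y) ∨ ∃ t, t * mw * t⁻¹ = y := by decide +kernel

theorem f_u : ∀ r : El DA, r * r = 1 → r ≠ 1 → r ≠ mz → El.cnt (fun d : El DA => d * mv = mv * d) =
    El.cnt (fun d : El DA => d * r = r * d) → ∃ u, u * u = 1 ∧ u * r * u⁻¹ = r * mz := by decide +kernel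

theorem f_two : ∀ c : El DA, c * c = 1 → c ≠ 1 → c ≠ mz → ∀ o, o * c = c * o → o ^ 4 = 1 := by decide +kernel

/-- products of five elements -/
def p5 {M : Type*} [Monoid M] (z v b t c : M) (i j k l m : ℕ) : M := z ^ i * v ^ j * b ^ k * t ^ l * c ^ m

theorem f_beta : ∀ a : El DA, a * a = 1 → a * mv = mv * a → ∀ b : El DA, b * b = 1 → a * b * a * b = mv * mz →
    ∀ c : El DA, c * c = 1 → b * c = c * b → a * c * a * c = mv → b * mv = mv * b → c * mv = mv * c →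
    (∀ i < 2, ∀ j < 2, ∀ k < 2, ∀ l < 2, ∀ m < 2, mu * a * mu = p5 mz mv mb mt mc i j k l m →
      p5 mv (mv * mz) c b a i j k l m = mu * mc * mu) →
    (∀ i < 2, ∀ j < 2, ∀ k < 2, ∀ l < 2, ∀ m < 2, mu * b * mu = p5 mz mv mb mt mc i j k l m →
      p5 mv (mv * mz) c b a i j k l m = mu * mt * mu) →
    (∀ i < 2, ∀ j < 2, ∀ k < 2, ∀ l < 2, ∀ m < 2, mu * c * mu = p5 mz mv mb mt mc i j k l m →
      p5 mv (mv * mz) c b a i j k l m = mu * mb * mu) →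
    (∀ i < 2, ∀ j < 2, ∀ k < 2, ∀ l < 2, c = p5 mz mv mb mt mc i j k l 0 →
      ∀ i' < 2, ∀ j' < 2, ∀ k' < 2, ∀ l' < 2, p5 mv (mv * mz) c b a i j k l 0 = p5 mz mv mb mt mc i' j' k' l' 0 →
      p5 mv (mv * mz) c b a i' j' k' l' 0 = mb) →
    (a = mc ∨ a = mz * mv * mc) ∧ (b = mb * mt ∧ c = mt ∨ b = mz * mv * mb * mt ∧ c = mz * mt) := by decide +kernel

/-- the normal subgroup of order eight -/
noncomputable def aW : List (El DA) := [1, mz, mv, mv * mz, mc, mc * mz, mc * mv, mc * mv * mz]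

theorem f_W : ∀ t : El DA, t * mv * t⁻¹ ∈ aW := by decide +kernel

theorem f_W2 : ∀ y ∈ aW, y = 1 ∨ y = mz ∨ ∃ t, t * mv * t⁻¹ = y := by decide +kernel

theorem f_W3 : ∀ y ∈ aW, ∀ y' ∈ aW, y * y' = y' * y ∧ y * y' ∈ aW := by decide +kernel

theorem f_W4 : ∀ y ∈ aW, y * y = 1 := by decide +kernel

theorem f_W5 : ∀ c : El DA, (∀ y ∈ aW, c * y = y * c) → c ∈ aW := by decide +kernel

theorem f_axis : ∀ c : El DA, c * c = 1 → c ∉ aW → ∃ t ∈ aW, t ≠ 1 ∧ t * c = c * t ∧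
    (∃ a ∈ aW, a * c * a * c = t) ∧ (∀ a ∈ aW, a * c * a * c = 1 ∨ a * c * a * c = t) ∧
    ∃ t' ∈ aW, t' ≠ 1 ∧ t' ≠ t ∧ t' * c = c * t' := by decide +kernel

/-- linear maps on the elementary abelian subgroup of order sixteen -/
noncomputable def ap (a b c d y : El DA) : El DA :=
  a ^ ((coT >>> (4 * y.v)) % 2) * b ^ ((coT >>> (4 * y.v + 1)) % 2) * c ^ ((coT >>> (4 * y.v + 2)) % 2) *
    d ^ ((coT >>> (4 * y.v + 3)) % 2)

theorem f_CA : ∀ a : El DA, a * mv = mv * a → a * mb = mb * a → a * mt = mt * a → a * a = 1 ∧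
    ap mz mv mb mt (mc * a * mc⁻¹) = mc * a * mc⁻¹ ∧ ap mz mv mb mt (mu * a * mu⁻¹) = mu * a * mu⁻¹ ∧
    (ap mb mt (mz * mb) (mv * mt) (mc * a * mc⁻¹) = a →
      ap mv (mv * mz) mt (mb * mt) (mu * a * mu⁻¹) = a → a = 1 ∨ a = mz * mv * mb * mt) := by decide +kernel

theorem f_C1 : ∀ a : El DA, a * mv = mv * a → a * mc = mc * a → mt * mx * a * (mt * mx)⁻¹ = a⁻¹ →
    a = 1 ∨ a = mz ∨ a = mc * mv ∨ a = mz * (mc * mv) := by decide +kernel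

theorem f_C2 : ∀ a : El DA, a * mb = mb * a → a * mu = mu * a → mt * mx * a * (mt * mx)⁻¹ = a⁻¹ →
    a = 1 ∨ a = mz ∨ a = mu * mb ∨ a = mz * (mu * mb) := by decide +kernel

/-- the four-group -/
noncomputable def aF : List (El DA) := [1, mw, my, my * mw]

theorem f_cw : ∀ r : El DA, r * mw = mw * r → ∃ i < 4, ∃ j < 2, ∃ f ∈ aF, r = (mk * ms) ^ i * ms ^ j * f := by
  decide +kernel

theorem f_sF : ∀ f ∈ aF, ms * f * (ms * f) = 1 → ∃ t, t * mw * t⁻¹ = ms * f := by decide +kernel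

theorem f_T3 : ∀ r : El DA, r * mw = mw * r → r * r = 1 → r = my ∨ r = my * mw ∨
    (∀ f ∈ [1, mw], r * f = 1 ∨ (∃ t, t * mw * t⁻¹ = r * f) ∨ ∃ t, t * mk * t⁻¹ = r * f) → r = 1 ∨ r = mw ∨ r = my ∨
      r = my * mw ∨ ∃ t, t * mw = mw * t ∧ t * ms * t⁻¹ = r := by decide +kernel

theorem f_W33 : ∀ r : El DA, r * mw = mw * r → r * ms = ms * r → r = 1 ∨ r = mz ∨ ∃ t, t * mw * t⁻¹ = r := by
  decide +kernel

end Cfsg.Agent.A8Q
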