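import Cfsg.Agent.A8Q.F1
import Cfsg.Agent.M12R.S5

/-!
# A8Q/F2: facts about the centraliser of an involution of the second class
-/

set_option autoImplicit false
set_option maxRecDepth 100000
set_option synthInstance.maxSize 100000

namespace Cfsg.Agent.A8Q
open Cfsg.Agent.Comp Cfsg.Agent.Core Cfsg.Agent.M12R

/-- the involutions of the first class -/
abbrev isD (r : El DA) : Prop :=
  r = mz ∨ (∃ t, t * mv * t⁻¹ = r) ∨ (∃ t, t * mb * t⁻¹ = r) ∨ ∃ t, t * mt * t⁻¹ = r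

/-- the involutions of the second class -/
abbrev isE (r : El DA) : Prop := (∃ t, t * mw * t⁻¹ = r) ∨ ∃ t, t * mk * t⁻¹ = r

theorem f_nF : ∀ r : El DA, r * mw = mw * r → r * my * r⁻¹ = my ∨ r * my * r⁻¹ = my * mw := by decide +kernel

theorem f_F : ∀ r ∈ aF, r⁻¹ ∈ aF ∧ r * mw = mw * r ∧ r * r * r = r ∧ ap mz mv mb mt r = r ∧
    ap mb mt (mb * mz) (mv * mt) r = ap mz mv mb mt (ap mb mt (mb * mz) (mv * mt) r) ∧
    ap mv (mv * mz) mt (mb * mt) (ap mb mt (mb * mz) (mv * mt) r) = r ∧ (r = 1 ∨ isD (mj * r)) ∧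
    ∀ r' ∈ aF, r * r' ∈ aF := by decide +kernel

theorem f_T : ∀ r : El DA, r * mw = mw * r → r * r = 1 → r = 1 ∨ r = mw ∨ isD r ∨ isD (r * mw) ∨ r = my ∨
    r = my * mw ∨ ∃ t, t * mw = mw * t ∧ t * ms * t⁻¹ = r := by decide +kernel

/-- products of four elements -/
def p4 {M : Type*} [Monoid M] (a b c d : M) (n : ℕ) : M := a ^ (n / 8) * b ^ (n / 4 % 2) * c ^ (n / 2 % 2) * d ^ (n % 2)

theorem s_dc : ∀ x : El DS, (∃ n < 24, x = p4 sf su sz (sf * sz * sf⁻¹) n) ∨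
    ∃ n < 24, ∃ m < 4, x = p4 sf su sz (sf * sz * sf⁻¹) n * sd * p4 sf su sz (sf * sz * sf⁻¹) m := by decide +kernel

theorem s_inv4 : ∀ n < 24, ∀ x, x = p4 sf su sz (sf * sz * sf⁻¹) n → x * x = 1 → x = 1 ∨ ∃ m < 24, ∃ y,
    y = p4 sf su sz (sf * sz * sf⁻¹) m ∧ (y * x * y⁻¹ = sz ∨ y * x * y⁻¹ = su) := by decide +kernel

end Cfsg.Agent.A8Q
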