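import Cfsg.Agent.A8Q.F1
import Cfsg.Agent.A8Q.Ent

/-!
# A8Q/Fus: fusion and the parabolic subgroups
-/

set_option autoImplicit false
set_option maxRecDepth 100000

namespace Cfsg.Agent.A8Q

open Cfsg.Agent.Comp Cfsg.Agent.Core Cfsg.Agent.M12R Subgroup

variable {G : Type*} [Group G] {φ : El DA →* G}

set_option hygiene false in
scoped notation "𝐜" => φ mc

theorem exists_f (h : CM φ mz) (hc : IsConj 𝐳 𝐯) : ∃ f : G, f * f * f = 1 ∧ 𝐮 * f * 𝐮 = f⁻¹ ∧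
    f * 𝐳 * f⁻¹ = 𝐯 ∧ f * 𝐯 * f⁻¹ = 𝐯 * 𝐳 := by
  obtain ⟨k, e1⟩ := isConj_iff.1 hc
  obtain ⟨r, hr⟩ := h.pull (g := k) (y := 𝐳) (by rw [e1]; exact (h.comm _).symm)
  have e2 : k * φ r * k⁻¹ = 𝐳 := by rw [hr]; group
  obtain ⟨u, u1, u2⟩ := f_u r (h.sq hr (mdl h.inj)) (fun e => by
    rw [e, map_one, mul_one, mul_inv_cancel] at e2
    exact absurd e2.symm (mdl h.inj)) (fun e => by
    rw [e, e1] at e2; exact absurd e2 (mdl h.inj)) (h.cnt e1 e2)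
  have uu : 𝐮 * 𝐮 = 1 := mdl h.inj
  have ui : 𝐮⁻¹ = 𝐮 := mdl h.inj
  have uv : 𝐮 * 𝐯 * 𝐮⁻¹ = 𝐯 * 𝐳 := mdl h.inj
  obtain ⟨t, ht⟩ : ∃ t, t = k * φ u * k⁻¹ := ⟨_, rfl⟩
  have tt : t * t = 1 := ht ▸ cj_sq (by rw [← map_mul, u1, map_one]) k
  have tv : t * 𝐯 * t⁻¹ = 𝐯 := by rw [ht, ← e1]; exact cj_fix (cj_comm (h.comm u) k)
  have tz : t * 𝐳 * t⁻¹ = 𝐳 * 𝐯 := by
    rw [← cj_mul e2 e1, ← map_mul, ← u2, ht, ← e2]
    simp only [map_mul, map_inv]; group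
  have fz : 𝐮 * t * 𝐳 * (𝐮 * t)⁻¹ = 𝐯 := cj_cj tz (mdl h.inj)
  have fv : 𝐮 * t * 𝐯 * (𝐮 * t)⁻¹ = 𝐯 * 𝐳 := cj_cj tv uv
  have sf : 𝐮 * (𝐮 * t) * 𝐮 = (𝐮 * t)⁻¹ := by
    rw [← mul_assoc, uu, one_mul, mul_inv_rev, ui, inv_eq_of_mul_eq_one_right tt]
  generalize 𝐮 * t = m at fz fv sf
  have fw : m * (𝐯 * 𝐳) * m⁻¹ = 𝐳 := (cj_mul fv fz).trans (mdl h.inj)
  have m4 := cj_cj (cj_cj fz fv) fw
  have m5 := cj_cj (cj_cj fv fw) fz
  obtain ⟨r, hr⟩ := (h.cent _).mp (comm_of_cj m4)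
  have r4 := congrArg φ (f_two mv (by decide +kernel) (by decide +kernel) (by decide +kernel) r
    (h.inj (by rw [map_mul, map_mul, hr]; exact comm_of_cj m5)))
  rw [map_pow, hr, map_one] at r4
  refine ⟨m * (m * (m * m)), by rw [← r4]; simp only [pow_succ, pow_zero, one_mul, mul_assoc], ?_, cj_cj m4 fz,
    cj_cj m5 fv⟩
  calc _ = (𝐮 * m * 𝐮) * (𝐮 * 𝐮)⁻¹ * (𝐮 * m * 𝐮) * (𝐮 * 𝐮)⁻¹ * (𝐮 * m * 𝐮) * (𝐮 * 𝐮)⁻¹ * (𝐮 * m * 𝐮) := by group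
    _ = _ := by rw [sf, uu]; simp only [inv_one, mul_one, mul_inv_rev, mul_assoc]

theorem exists_k (h : CM φ mz) (hc : IsConj 𝐳 𝐯) : ∃ f : G, f * f * f = 1 ∧ 𝐮 * f * 𝐮 = f⁻¹ ∧
    f * 𝐳 * f⁻¹ = 𝐯 ∧ f * 𝐯 * f⁻¹ = φ (mv * mz) ∧ f * 𝐜 * f⁻¹ = 𝐜 ∧
    (f * 𝐭 * f⁻¹ = φ (mb * mt) ∧ f * 𝐛 * f⁻¹ = 𝐭 ∨
      f * 𝐭 * f⁻¹ = φ (mz * mv * mb * mt) ∧ f * 𝐛 * f⁻¹ = φ (mz * mt)) := by
  obtain ⟨f, f3, uf, fz, fv⟩ := exists_f h hc
  rw [← map_mul] at fv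
  have fz' := fz
  have fv' := fv
  rw [← MulAut.conj_apply] at fz fv
  have uu : 𝐮 * 𝐮 = 1 := mdl h.inj
  have im : ∀ r : El DA, r * mv = mv * r → ∃ r1, φ r1 = MulAut.conj f (φ r) ∧ r1 * mv = mv * r1 := fun r hr => by
    have c1 := congrArg (MulAut.conj f) (h.comm r)
    have c2 := congrArg (fun y => MulAut.conj f (φ y)) hr
    simp only [map_mul, fz, fv] at c1 c2
    rw [← mul_assoc, c1, mul_assoc, mul_assoc] at c2
    obtain ⟨r1, h1⟩ := (h.cent _).mp (mul_left_cancel c2)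
    exact ⟨r1, h1, h.inj (by rw [map_mul, map_mul, h1, c1])⟩
  obtain ⟨a, ha, a1⟩ := im mc (by decide +kernel)
  obtain ⟨b, hb, b1⟩ := im mt (by decide +kernel)
  obtain ⟨c, hc, c1⟩ := im mb (by decide +kernel)
  have hu : ∀ y, MulAut.conj f (𝐮 * MulAut.conj f y * 𝐮) = 𝐮 * y * 𝐮 := fun y => by
    have k1 : f * 𝐮 * f = 𝐮 := by
      calc _ = f * (𝐮 * f * 𝐮) * 𝐮 * (𝐮 * 𝐮)⁻¹ := by group
        _ = _ := by rw [uf, uu]; group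
    have k2 : f⁻¹ * 𝐮 * f⁻¹ = 𝐮 := by nth_rw 1 [← k1]; group
    rw [MulAut.conj_apply, MulAut.conj_apply]
    calc _ = (f * 𝐮 * f) * y * (f⁻¹ * 𝐮 * f⁻¹) := by group
      _ = _ := by rw [k1, k2]
  have tr : ∀ {x y : El DA}, x = y → MulAut.conj f (φ x) = MulAut.conj f (φ y) := fun e => by rw [e]
  have p : ∀ i j k l m : ℕ, φ (p5 mv (mv * mz) c b a i j k l m) = MulAut.conj f (φ (p5 mz mv mb mt mc i j k l m)) :=
    fun i j k l m => by simp only [p5, map_mul _ (_ ^ _), map_mul _ (_ * _ ^ _), map_pow, ha, hb, hc, fz, fv]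
  have q : ∀ a' y : El DA, φ a' = MulAut.conj f (φ y) → ∀ i < 2, ∀ j < 2, ∀ k < 2, ∀ l < 2, ∀ m < 2,
      mu * a' * mu = p5 mz mv mb mt mc i j k l m → p5 mv (mv * mz) c b a i j k l m = mu * y * mu :=
    fun a' y ha' i _ j _ k _ l _ m _ e => h.inj (by rw [p, ← e, map_mul φ, map_mul φ, ha', hu, map_mul, map_mul])
  obtain ⟨H1, H2⟩ := f_beta a (h.inj (by simpa only [map_mul, map_one, ha] using tr (show mc * mc = 1 by decide +kernel))) a1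
    b (h.inj (by simpa only [map_mul, map_one, hb] using tr (show mt * mt = 1 by decide +kernel)))
    (h.inj (by simpa only [map_mul, ha, hb, fv] using tr (show mc * mt * mc * mt = mv by decide +kernel)))
    c (h.inj (by simpa only [map_mul, map_one, hc] using tr (show mb * mb = 1 by decide +kernel)))
    (h.inj (by simpa only [map_mul, hb, hc] using tr (show mt * mb = mb * mt by decide +kernel)))
    (h.inj (by simpa only [map_mul, ha, hc, fz] using tr (show mc * mb * mc * mb = mz by decide +kernel))) b1 c1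
    (q a _ ha) (q b _ hb) (q c _ hc) fun i _ j _ k _ l _ e i' _ j' _ k' _ l' _ e' => h.inj (by
      rw [p, ← e', p, ← e, hc, ← MulAut.mul_apply, ← MulAut.mul_apply, ← map_mul, ← map_mul, f3, map_one,
        MulAut.one_apply])
  rw [MulAut.conj_apply, eq_comm] at ha hb hc
  have H2 : f * 𝐭 * f⁻¹ = φ (mb * mt) ∧ f * 𝐛 * f⁻¹ = 𝐭 ∨
      f * 𝐭 * f⁻¹ = φ (mz * mv * mb * mt) ∧ f * 𝐛 * f⁻¹ = φ (mz * mt) :=
    H2.imp (fun e => ⟨by rw [← e.1]; exact hb, by rw [← e.2]; exact hc⟩)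
      fun e => ⟨by rw [← e.1]; exact hb, by rw [← e.2]; exact hc⟩
  rcases H1 with rfl | rfl
  · exact ⟨f, f3, uf, fz', fv', ha, H2⟩
  have T : ∀ {y y' : El DA}, f * φ y * f⁻¹ = φ y' → mb⁻¹ * y * mb⁻¹⁻¹ = y → mb * y' * mb⁻¹ = y' →
      𝐛 * f * 𝐛⁻¹ * φ y * (𝐛 * f * 𝐛⁻¹)⁻¹ = φ y' := fun e e1 e2 =>
    cj_cj (by rw [← map_inv, ← map_inv, ← map_mul, ← map_mul, e1]) (cj_cj e (by rw [← map_inv, ← map_mul, ← map_mul, e2]))
  refine ⟨𝐛 * f * 𝐛⁻¹, ?_, ?_, T fz' (by decide +kernel) (by decide +kernel), T fv' (by decide +kernel) (by decide +kernel),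
    cj_cj (b := 𝐜 * 𝐳) (mdl h.inj) (cj_cj (cj_mul ha fz') (mdl h.inj)), H2.imp
    (fun e => ⟨T e.1 (by decide +kernel) (by decide +kernel), T e.2 (by decide +kernel) (by decide +kernel)⟩)
    fun e => ⟨T e.1 (by decide +kernel) (by decide +kernel), T e.2 (by decide +kernel) (by decide +kernel)⟩⟩
  · rw [← cj_mul rfl rfl, ← cj_mul rfl rfl, f3]; simp
  · rw [← cj_fix (show 𝐛 * 𝐮 = 𝐮 * 𝐛 from mdl h.inj), ← cj_mul rfl rfl, ← cj_mul rfl rfl, uf]; group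

theorem exists_aut {c : List (El DA)} (hc : ∀ w ∈ RDA, ev (fun n => c.getD n 1) w = 1) {t v b w c' u : El DA}
    (H : ∀ p ∈ [(mz, mz), (mt, t), (mv, v), (mb, b), (mw, w), (mc, c'), (mu, u)], ∃ w ∈ [6] :: wds,
      p.1 = ev (El.l DA) w ∧ p.2 = ev (fun n => c.getD n 1) w) : ∃ σ : El DA →* El DA, Function.Injective σ ∧
      σ mz = mz ∧ σ mt = t ∧ σ mv = v ∧ σ mb = b ∧ σ mw = w ∧ σ mc = c' ∧ σ mu = u := by
  obtain ⟨σ, h1, -⟩ := El.exists_hom (D := DA) hc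
  have : ∀ p ∈ [(mz, mz), (mt, t), (mv, v), (mb, b), (mw, w), (mc, c'), (mu, u)], σ p.1 = p.2 := fun p hp => by
    obtain ⟨w, hw, e1, e2⟩ := H p hp
    rw [e1, e2, map_ev]
    exact ev_congr fun a ha => h1 a ((by decide +kernel : ∀ w ∈ [6] :: wds, ∀ a ∈ w, a < 7) w hw a ha)
  simp only [List.mem_cons, List.not_mem_nil, or_false, forall_eq_or_imp, forall_eq] at this
  exact ⟨σ, inj_of_z (by rw [this.1]; decide +kernel), this⟩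

theorem act {k : G} {a b c d : El DA} (e1 : k * 𝐳 * k⁻¹ = φ a) (e2 : k * 𝐯 * k⁻¹ = φ b) (e3 : k * 𝐛 * k⁻¹ = φ c)
    (e4 : k * 𝐭 * k⁻¹ = φ d) {y y' : El DA} (hy : ap mz mv mb mt y = y ∧ ap a b c d y = y') : k * φ y * k⁻¹ = φ y' := by
  rw [← MulAut.conj_apply] at e1 e2 e3 e4 ⊢
  rw [← hy.2]
  nth_rw 1 [← hy.1]
  simp only [ap, map_mul, map_pow, e1, e2, e3, e4]

/-- the centraliser of `z` together with an element of order three normalising `⟨z, v⟩` -/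
structure K1 (φ : El DA →* G) (f : G) : Prop extends CM φ mz where
  f3 : f * f * f = 1
  uf : 𝐮 * f * 𝐮 = f⁻¹
  fz : f * 𝐳 * f⁻¹ = 𝐯
  fv : f * 𝐯 * f⁻¹ = φ (mv * mz)
  fc : f * 𝐜 * f⁻¹ = 𝐜
  ft : f * 𝐭 * f⁻¹ = φ (mb * mt)
  fb : f * 𝐛 * f⁻¹ = 𝐭

theorem K1.fa {f : G} (h : K1 φ f) {y y' : El DA}
    (hy : ap mz mv mb mt y = y ∧ ap mv (mv * mz) mt (mb * mt) y = y' := by decide +kernel) : f * φ y * f⁻¹ = φ y' :=
  act h.fz h.fv h.fb h.ft hy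

theorem K1.wk {f : G} (h : K1 φ f) : IsConj 𝐰 (φ A8Q.mk) :=
  (cj_of f (h.fa (y' := mc⁻¹ * A8Q.mk * mc))).trans (cj_of 𝐜 (mdl h.inj))

theorem exists_k1 [Finite G] (h : CM φ mz) (hc : IsConj 𝐳 𝐯) : ∃ (ψ : El DA →* G) (f : G), K1 ψ f ∧ ψ mz = 𝐳 ∧
    ψ mb = 𝐛 ∧ ψ mw = 𝐰 := by
  obtain ⟨f, a1, a2, a3, a4, a5, ⟨a6, a7⟩ | ⟨a6, a7⟩⟩ := exists_k h hc
  · exact ⟨φ, f, ⟨h, a1, a2, a3, a4, a5, a6, a7⟩, rfl, rfl, rfl⟩
  obtain ⟨σ, s0, s1, s2, s3, s4, s5, s6, s7⟩ := exists_aut (c := rho3) (t := mz * mt) (v := mv) (b := mb) (w := mw)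
    (c' := mc) (u := mu) (by decide +kernel) (by decide +kernel)
  refine ⟨φ.comp σ, f, ⟨h.comp s0 s1, a1, ?_, ?_, ?_, ?_, ?_, ?_⟩, ?_, ?_, ?_⟩ <;>
    simp only [MonoidHom.comp_apply, map_mul σ, s1, s2, s3, s4, s5, s6, s7, a2, a3, a4, a5, a7]
  rw [map_mul, cj_mul a3 a6]; exact mdl h.inj

theorem K1.wd {f : G} (h : K1 φ f) (nb : ¬ IsConj 𝐳 𝐛) (nw : ¬ IsConj 𝐳 𝐰) : WD φ mz aW := by
  refine ⟨h.toCM, by decide +kernel, by decide +kernel, fun y hy => ?_, fun y hy y1 => ?_, f_W3, f_W4, f_axis, f_two,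
    mt, by decide +kernel, by decide +kernel⟩
  · rcases f_inv y (h.inj (by rw [map_mul, map_one]; exact sq_of_cj (mdl h.inj) hy)) with
      rfl | rfl | ⟨t, rfl⟩ | ⟨t, rfl⟩ | ⟨t, rfl⟩ | ⟨t, rfl⟩ | ⟨t, rfl⟩
    · decide +kernel
    · decide +kernel
    · exact f_W t
    · exact absurd (hy.trans (CM.cj t _).symm) nb
    · exact absurd (hy.trans (CM.cj t _).symm) nw
    · exact absurd ((hy.trans (CM.cj t _).symm).trans (cj_of f h.fb).symm) nb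
    · exact absurd ((hy.trans (CM.cj t _).symm).trans h.wk.symm) nw
  · rcases f_W2 y hy with rfl | rfl | ⟨t, rfl⟩
    exacts [absurd rfl y1, IsConj.refl _, (cj_of f h.fz).trans (CM.cj t mv)]

/-- the parabolic subgroups -/
structure AD (φ : El DA →* G) (f g : G) : Prop extends K1 φ f where
  g3 : g * g * g = 1
  cg : 𝐜 * g * 𝐜 = g⁻¹
  gz : g * 𝐳 * g⁻¹ = 𝐛
  gb : g * 𝐛 * g⁻¹ = φ (mb * mz)
  gu : g * 𝐮 * g⁻¹ = 𝐮
  gt : g * 𝐭 * g⁻¹ = φ (mv * mt)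
  gv : g * 𝐯 * g⁻¹ = 𝐭

theorem AD.ga {f g : G} (h : AD φ f g) {y y' : El DA}
    (hy : ap mz mv mb mt y = y ∧ ap mb mt (mb * mz) (mv * mt) y = y' := by decide +kernel) : g * φ y * g⁻¹ = φ y' :=
  act h.gz h.gv h.gb h.gt hy

theorem K1.exists_ad [Finite G] {f : G} (h : K1 φ f) (hb : IsConj 𝐳 𝐛) : ∃ g, AD φ f g := by
  obtain ⟨σ, s0, s1, s2, s3, s4, s5, s6, s7⟩ := exists_aut (c := rho1) (t := mt) (v := mb) (b := mv) (w := mw)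
    (c' := mu) (u := mc) (by decide +kernel) (by decide +kernel)
  obtain ⟨g, a1, a2, a3, a4, a5, a6⟩ := exists_k (h.comp s0 s1) (by simpa only [MonoidHom.comp_apply, s1, s3] using hb)
  simp only [MonoidHom.comp_apply, map_mul σ, s1, s2, s3, s4, s5, s6, s7] at a2 a3 a4 a5 a6
  rcases a6 with ⟨a6, a7⟩ | ⟨a6, a7⟩
  · exact ⟨g, h, a1, a2, a3, a4, a5, a6, a7⟩
  have T : ∀ y y' : El DA, (∃ y1, (ap mz mv mb mt y = y ∧ ap mv (mv * mz) mt (mb * mt) y = y1) ∧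
      ∃ y2, (ap mz mv mb mt y1 = y1 ∧ ap mb (mz * mt) (mb * mz) (mz * mb * mv * mt) y1 = y2) ∧
      ∃ y3, (ap mz mv mb mt y2 = y2 ∧ ap mv (mv * mz) mt (mb * mt) y2 = y3) ∧
      ∃ y4, (ap mz mv mb mt y3 = y3 ∧ ap mb (mz * mt) (mb * mz) (mz * mb * mv * mt) y3 = y4) ∧
      (ap mz mv mb mt y4 = y4 ∧ ap mv (mv * mz) mt (mb * mt) y4 = y')) →
      f * (g * (f * (g * f))) * φ y * (f * (g * (f * (g * f))))⁻¹ = φ y' := fun y y' ⟨_, e1, _, e2, _, e3, _, e4, e5⟩ =>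
    cj_cj (cj_cj (cj_cj (cj_cj (h.fa e1) (act a3 a7 a4 a6 e2)) (h.fa e3)) (act a3 a7 a4 a6 e4)) (h.fa e5)
  simp only [and_assoc, exists_and_left, exists_eq_left'] at T
  obtain ⟨r, hr⟩ := (h.cent _).1 (comm_of_cj (T mz mz (by decide +kernel)))
  have := T mt (mz * mt) (by decide +kernel)
  rw [← hr, ← map_inv, ← map_mul, ← map_mul, h.inj.eq_iff] at this
  exact absurd this ((by decide +kernel : ∀ r : El DA, r * mt * r⁻¹ ≠ mz * mt) r)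

theorem fus [Finite G] (h : CM φ mz) {y : El DA} (y1 : y ≠ mz) (hy : IsConj 𝐳 (φ y))
    (y4 : (y * (mx * y * mx⁻¹)) ^ 4 = 1) : (∃ φ : El DA →* G, WD φ mz aW) ∨ ∃ (φ : El DA →* G) (f g : G), AD φ f g := by
  have A : ∀ φ : El DA →* G, CM φ mz → IsConj 𝐳 𝐯 → (IsConj 𝐳 𝐰 → IsConj 𝐳 𝐛) →
      (∃ φ : El DA →* G, WD φ mz aW) ∨ ∃ (φ : El DA →* G) (f g : G), AD φ f g := fun φ h hv H => by
    obtain ⟨ψ, f, h1, e1, e2, e3⟩ := exists_k1 h hv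
    rw [← e1, ← e2, ← e3] at H
    by_cases hb : IsConj (ψ mz) (ψ mb)
    · exact Or.inr ⟨ψ, f, h1.exists_ad hb⟩
    · exact Or.inl ⟨ψ, h1.wd hb fun e => hb (H e)⟩
  obtain ⟨σ, s0, s1, -, s3, s4, s5, -⟩ := exists_aut (c := rho1) (t := mt) (v := mb) (b := mv) (w := mw)
    (c' := mu) (u := mc) (by decide +kernel) (by decide +kernel)
  obtain ⟨ρ, r0, r1, -, r3, r4, r5, -⟩ := exists_aut (c := rho2) (t := ev (fun n => rho2.getD n 1) [6]) (v := mv)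
    (b := mw) (w := mb) (c' := ev (fun n => rho2.getD n 1) (wds.getD 3 [])) (u := ev (fun n => rho2.getD n 1) (wds.getD 4 []))
    (by decide +kernel) (by decide +kernel)
  have B : ∀ φ : El DA →* G, CM φ mz → IsConj 𝐳 𝐯 →
      (∃ φ : El DA →* G, WD φ mz aW) ∨ ∃ (φ : El DA →* G) (f g : G), AD φ f g := fun φ h hv => by
    by_cases hw : IsConj 𝐳 𝐰
    · exact A _ (h.comp r0 r1) (by simpa only [MonoidHom.comp_apply, r1, r3] using hv)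
        fun _ => by simpa only [MonoidHom.comp_apply, r1, r4] using hw
    · exact A φ h hv fun e => absurd e hw
  have C : ∀ φ : El DA →* G, CM φ mz → IsConj 𝐳 𝐛 →
      (∃ φ : El DA →* G, WD φ mz aW) ∨ ∃ (φ : El DA →* G) (f g : G), AD φ f g := fun φ h hb =>
    B _ (h.comp s0 s1) (by simpa only [MonoidHom.comp_apply, s1, s3] using hb)
  rcases f_Q y (h.inj (by rw [map_mul, map_one]; exact sq_of_cj (mdl h.inj) hy)) y4 with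
    rfl | rfl | ⟨t, rfl⟩ | ⟨t, rfl⟩ | ⟨t, rfl⟩
  · rw [map_one, isConj_one_left] at hy
    exact absurd hy (mdl h.inj)
  · exact absurd rfl y1
  · exact B φ h (hy.trans (CM.cj t _).symm)
  · exact C φ h (hy.trans (CM.cj t _).symm)
  · exact C _ (h.comp r0 r1) (by simpa only [MonoidHom.comp_apply, r1, r4] using hy.trans (CM.cj t _).symm)

end Cfsg.Agent.A8Q
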